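import Groth.Prelude.Def_W4c61motalbdualityCompl
import Mathlib.Algebra.Module.CharacterModule
import Mathlib.Topology.Algebra.OpenSubgroup
import Mathlib.Topology.Algebra.Nonarchimedean.Basic
import Mathlib.Topology.Algebra.Group.Pointwise
import Mathlib.Topology.Separation.Profinite
import Mathlib.GroupTheory.FiniteAbelian.Basic
import Mathlib.RingTheory.Int.Basic

/-!
# Characters with open kernel and completions for open subgroups of finite index
-/

open Pointwise Topology Filter

namespace Groth.L05.ProCompl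

universe u v

/-- Values of characters. -/
abbrev QZ : Type := ℚ ⧸ AddSubgroup.zmultiples (1 : ℚ)

theorem exists_extension {A : Type u} {B : Type v} [AddCommGroup A] [AddCommGroup B] (f : A →+ B)
    (χ : A →+ QZ) (h : f.ker ≤ χ.ker) : ∃ ψ : B →+ QZ, ψ.comp f = χ := by
  let f' : A ⧸ f.ker →+ B := QuotientAddGroup.kerLift f
  let χ' : A ⧸ f.ker →+ QZ := QuotientAddGroup.lift f.ker χ h
  obtain ⟨ψ, hψ⟩ := CharacterModule.dual_surjective_of_injective (R := ℤ) f'.toIntLinearMap
    (QuotientAddGroup.kerLift_injective f) (χ' : CharacterModule (A ⧸ f.ker))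
  refine ⟨ψ, AddMonoidHom.ext fun a => ?_⟩
  exact DFunLike.congr_fun hψ (QuotientAddGroup.mk a)

theorem exists_char_ne_zero {A : Type u} [AddCommGroup A] (W : AddSubgroup A) {a : A} (ha : a ∉ W) :
    ∃ χ : A →+ QZ, W ≤ χ.ker ∧ χ a ≠ 0 := by
  obtain ⟨c, hc⟩ := CharacterModule.exists_character_apply_ne_zero_of_ne_zero
    (A := A ⧸ W) (a := QuotientAddGroup.mk a) (by rwa [ne_eq, QuotientAddGroup.eq_zero_iff])
  refine ⟨(c : A ⧸ W →+ QZ).comp (QuotientAddGroup.mk' W), fun w hw => ?_, hc⟩
  show c _ = 0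
  rw [QuotientAddGroup.mk'_apply, (QuotientAddGroup.eq_zero_iff w).mpr hw]
  exact map_zero (c : A ⧸ W →+ QZ)

/-- Extension of a character vanishing on the trace of a subgroup. -/
theorem exists_extension_of_comap_le {A : Type u} {B : Type v} [AddCommGroup A] [AddCommGroup B]
    (f : A →+ B) (χ : A →+ QZ) (V : AddSubgroup B) (h : V.comap f ≤ χ.ker) :
    ∃ ψ : B →+ QZ, V ≤ ψ.ker ∧ ψ.comp f = χ := by
  obtain ⟨ψ, hψ⟩ := exists_extension ((QuotientAddGroup.mk' V).comp f) χ
    (fun a ha => h ((QuotientAddGroup.eq_zero_iff (f a)).mp ha))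
  refine ⟨ψ.comp (QuotientAddGroup.mk' V), fun v hv => ?_, by rw [AddMonoidHom.comp_assoc]; exact hψ⟩
  show ψ _ = 0
  rw [QuotientAddGroup.mk'_apply, (QuotientAddGroup.eq_zero_iff v).mpr hv, map_zero]

theorem isAddTorsion_QZ : AddMonoid.IsTorsion QZ := fun x => by
  obtain ⟨q, rfl⟩ := QuotientAddGroup.mk_surjective x
  refine isOfFinAddOrder_iff_nsmul_eq_zero.mpr ⟨q.den, q.den_pos, ?_⟩
  rw [← QuotientAddGroup.mk_nsmul, QuotientAddGroup.eq_zero_iff, AddSubgroup.mem_zmultiples_iff]
  exact ⟨q.num, by rw [zsmul_one, nsmul_eq_mul, mul_comm, Rat.mul_den_eq_num]⟩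

theorem mem_zmultiples_of_nsmul_eq_zero {x : QZ} {n : ℕ} (hn : 0 < n) (h : n • x = 0) :
    x ∈ AddSubgroup.zmultiples ((((1 : ℚ) / n) : ℚ) : QZ) := by
  obtain ⟨q, rfl⟩ := QuotientAddGroup.mk_surjective x
  rw [← QuotientAddGroup.mk_nsmul, QuotientAddGroup.eq_zero_iff, AddSubgroup.mem_zmultiples_iff] at h
  obtain ⟨m, hm⟩ := h
  refine AddSubgroup.mem_zmultiples_iff.mpr ⟨m, ?_⟩
  rw [← QuotientAddGroup.mk_zsmul]
  congr 1
  rw [zsmul_one, nsmul_eq_mul] at hm
  rw [zsmul_eq_mul, hm]
  field_simp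

theorem finite_zmultiples_QZ {n : ℕ} (hn : 0 < n) :
    Finite (AddSubgroup.zmultiples ((((1 : ℚ) / n) : ℚ) : QZ)) := by
  have := (isAddTorsion_QZ ((((1 : ℚ) / n) : ℚ) : QZ))
  exact this.finite_zmultiples

theorem finite_subgroup_QZ {G : AddSubgroup QZ} (hn : ∃ n, 0 < n ∧ ∀ x ∈ G, n • x = 0) :
    Finite G := by
  obtain ⟨n, hn, h⟩ := hn
  have := finite_zmultiples_QZ hn
  have hle : G ≤ AddSubgroup.zmultiples ((((1 : ℚ) / n) : ℚ) : QZ) :=
    fun x hx => mem_zmultiples_of_nsmul_eq_zero hn (h x hx)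
  exact Finite.of_injective _ (AddSubgroup.inclusion_injective hle)

theorem finiteIndex_ker {A : Type u} [AddCommGroup A] {G : Type v} [AddCommGroup G] (χ : A →+ G)
    [Finite χ.range] : χ.ker.FiniteIndex :=
  ⟨by rw [AddSubgroup.index_ker]; exact Nat.card_ne_zero.mpr ⟨inferInstance, inferInstance⟩⟩

theorem finiteIndex_ker_of_compactlyGenerated {B : Type u} [AddCommGroup B] [TopologicalSpace B]
    [IsTopologicalAddGroup B] (hcg : ∃ K : Set B, IsCompact K ∧ AddSubgroup.closure K = ⊤)
    (χ : B →+ QZ) (hχ : IsOpen (χ.ker : Set B)) : χ.ker.FiniteIndex := by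
  obtain ⟨K, hK, hKgen⟩ := hcg
  have hloc : ∀ b : B, IsOpen {x | χ x = χ b} := fun b => by
    have : {x | χ x = χ b} = (fun x => x - b) ⁻¹' (χ.ker : Set B) := by
      ext x
      simp [sub_eq_zero]
    rw [this]
    exact hχ.preimage (continuous_id.sub continuous_const)
  obtain ⟨t, -, ht, hKt⟩ := hK.elim_finite_subcover_image (b := Set.univ)
    (fun b _ => hloc b) (fun x _ => Set.mem_biUnion (Set.mem_univ x) rfl)
  have hrange : χ.range ≤ AddSubgroup.closure (χ '' t) := by
    rw [AddMonoidHom.range_eq_map, ← hKgen, AddMonoidHom.map_closure]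
    refine AddSubgroup.closure_mono ?_
    rintro _ ⟨x, hx, rfl⟩
    obtain ⟨b, hb, hxb⟩ := Set.mem_iUnion₂.mp (hKt hx)
    exact ⟨b, hb, hxb.symm⟩
  have : Finite χ.range := by
    obtain ⟨n, hn, hn'⟩ : ∃ n, 0 < n ∧ ∀ y ∈ χ '' t, n • y = 0 := by
      refine ⟨∏ y ∈ (ht.image χ).toFinset, addOrderOf y,
        Finset.prod_pos fun y _ => (isAddTorsion_QZ y).addOrderOf_pos, fun y hy => ?_⟩
      exact addOrderOf_dvd_iff_nsmul_eq_zero.mp
        (Finset.dvd_prod_of_mem _ ((ht.image χ).mem_toFinset.mpr hy))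
    refine finite_subgroup_QZ ⟨n, hn, fun x hx => ?_⟩
    replace hx := hrange hx
    induction hx using AddSubgroup.closure_induction with
    | mem y hy => exact hn' y hy
    | zero => exact nsmul_zero n
    | add y z _ _ hy hz => rw [nsmul_add, hy, hz, add_zero]
    | neg y _ hy => rw [neg_nsmul, hy, neg_zero]
  exact finiteIndex_ker χ

theorem nonarchimedean_of_locallyCompact {B : Type u} [AddCommGroup B] [TopologicalSpace B]
    [IsTopologicalAddGroup B] [T2Space B] [LocallyCompactSpace B] [TotallyDisconnectedSpace B] :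
    NonarchimedeanAddGroup B where
  is_nonarchimedean U hU := by
    obtain ⟨C, hC, hCU, hCc⟩ := local_compact_nhds hU
    obtain ⟨W, hW, h0, hWC⟩ := (loc_compact_Haus_tot_disc_of_zero_dim (H := B)).exists_subset_of_mem_open
      (mem_interior_iff_mem_nhds.mpr hC) isOpen_interior
    have hW' : IsClopen W := hW
    have hWcpt : IsCompact W :=
      hCc.of_isClosed_subset hW'.isClosed (hWC.trans interior_subset)
    obtain ⟨V, hV, hWV⟩ := compact_open_separated_add_right hWcpt hW'.isOpen subset_rfl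
    let H := AddSubgroup.closure (V ∩ -V)
    have hHnhds : (H : Set B) ∈ 𝓝 0 :=
      mem_of_superset (inter_mem hV (neg_mem_nhds_zero B hV)) AddSubgroup.subset_closure
    refine ⟨⟨H, H.isOpen_of_mem_nhds hHnhds⟩, ?_⟩
    have key : ∀ h ∈ H, ∀ w ∈ W, w + h ∈ W ∧ w - h ∈ W := fun h hh => by
      induction hh using AddSubgroup.closure_induction with
      | mem v hv =>
        intro w hw
        refine ⟨hWV (Set.add_mem_add hw hv.1), ?_⟩
        rw [sub_eq_add_neg]
        exact hWV (Set.add_mem_add hw hv.2)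
      | zero => intro w hw; simp [hw]
      | add y z _ _ hy hz =>
        intro w hw
        exact ⟨by rw [← add_assoc]; exact (hz _ (hy w hw).1).1,
          by rw [sub_add_eq_sub_sub]; exact (hz _ (hy w hw).2).2⟩
      | neg y _ hy =>
        intro w hw
        exact ⟨by rw [← sub_eq_add_neg]; exact (hy w hw).2, by rw [sub_neg_eq_add]; exact (hy w hw).1⟩
    intro h hh
    have := (key h hh 0 h0).1
    rw [zero_add] at this
    exact hCU (interior_subset (hWC this))

section FI

open W4c61motalbduality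

variable {A : Type u} [AddCommGroup A] [TopologicalSpace A]

/-- Compactness of the completion: finitely satisfiable families of conditions are satisfiable. -/
theorem exists_mem_FICompl_of_finite_approx {J : Type v} (U : J → OpenFI A)
    (S : (j : J) → Set (A ⧸ (U j).toAddSubgroup))
    (h : ∀ s : Finset J, ∃ a : A, ∀ j ∈ s, (QuotientAddGroup.mk a : A ⧸ (U j).toAddSubgroup) ∈ S j) :
    ∃ x : FICompl A, ∀ j, x.1 (U j) ∈ S j := by
  classical
  letI : ∀ V : OpenFI A, TopologicalSpace (A ⧸ V.toAddSubgroup) := fun _ => ⊥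
  haveI : ∀ V : OpenFI A, DiscreteTopology (A ⧸ V.toAddSubgroup) := fun _ => ⟨rfl⟩
  haveI : ∀ V : OpenFI A, Finite (A ⧸ V.toAddSubgroup) := fun V =>
    haveI := V.finiteIndex'
    inferInstance
  let K : Option J → Set ((V : OpenFI A) → A ⧸ V.toAddSubgroup) := fun o => match o with
    | none => {f | f ∈ FICompl A}
    | some j => {f | f (U j) ∈ S j}
  have hK : ∀ o, IsClosed (K o) := by
    intro o
    cases o with
    | none =>
      have : K none = ⋂ (V : OpenFI A) (W : OpenFI A) (h : V.toAddSubgroup ≤ W.toAddSubgroup),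
          {f | QuotientAddGroup.map V.toAddSubgroup W.toAddSubgroup (AddMonoidHom.id A) h (f V) = f W} := by
        ext f
        simp only [K, Set.mem_setOf_eq, Set.mem_iInter]
        exact Iff.rfl
      rw [this]
      exact isClosed_iInter fun V => isClosed_iInter fun W => isClosed_iInter fun h =>
        isClosed_eq (continuous_of_discreteTopology.comp (continuous_apply V)) (continuous_apply W)
    | some j => exact (isClosed_discrete _).preimage (continuous_apply (U j))
  have hne : ∀ s : Finset (Option J), (⋂ o ∈ s, K o).Nonempty := by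
    intro s
    obtain ⟨a, ha⟩ := h s.eraseNone
    refine ⟨(toFICompl A a).1, Set.mem_iInter₂.mpr fun o ho => ?_⟩
    cases o with
    | none => exact (toFICompl A a).2
    | some j => exact ha j (Finset.mem_eraseNone.mpr ho)
  obtain ⟨f, hf⟩ := CompactSpace.iInter_nonempty (X := (V : OpenFI A) → A ⧸ V.toAddSubgroup) hK hne
  rw [Set.mem_iInter] at hf
  exact ⟨⟨f, hf none⟩, fun j => hf (some j)⟩

/-- Finite intersections of open subgroups of finite index. -/
def finInf (s : Finset (OpenFI A)) : OpenFI A where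
  toAddSubgroup := s.inf OpenFI.toAddSubgroup
  isOpen' := by
    induction s using Finset.cons_induction with
    | empty => simp
    | cons a s ha ih => rw [Finset.inf_cons]; exact a.isOpen'.inter ih
  finiteIndex' := by
    induction s using Finset.cons_induction with
    | empty => exact inferInstanceAs (⊤ : AddSubgroup A).FiniteIndex
    | cons a s ha ih =>
      rw [Finset.inf_cons]
      haveI := a.finiteIndex'
      haveI := ih
      infer_instance

theorem finInf_le {s : Finset (OpenFI A)} {U : OpenFI A} (h : U ∈ s) :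
    (finInf s).toAddSubgroup ≤ U.toAddSubgroup :=
  Finset.inf_le h

theorem compat (x : FICompl A) {U V : OpenFI A} (h : U.toAddSubgroup ≤ V.toAddSubgroup) {a : A}
    (ha : (QuotientAddGroup.mk a : A ⧸ U.toAddSubgroup) = x.1 U) :
    (QuotientAddGroup.mk a : A ⧸ V.toAddSubgroup) = x.1 V := by
  rw [← x.2 U V h, ← ha]
  rfl

end FI

end Groth.L05.ProCompl
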