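import Groth.Agent.L05.ProCompl.Basic
import Mathlib.GroupTheory.SpecificGroups.Cyclic
import Mathlib.GroupTheory.Perm.Cycle.Type
import Mathlib.Data.Nat.Factorization.PrimePow
import Mathlib.GroupTheory.Exponent

/-!
# Groups in which every nontrivial subgroup contains a fixed element
-/

namespace Groth.L05.ProCompl

universe u

variable {A : Type u} [AddCommGroup A]

theorem exists_injective_char (a : A) (ha : a ≠ 0) (h : ∀ B : AddSubgroup A, B ≠ ⊥ → a ∈ B) :
    ∃ χ : A →+ QZ, Function.Injective χ := by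
  obtain ⟨χ, -, hχ⟩ := exists_char_ne_zero (⊥ : AddSubgroup A) (a := a) (by simpa using ha)
  refine ⟨χ, (AddMonoidHom.ker_eq_bot_iff χ).mp ?_⟩
  by_contra hne
  exact hχ (h _ hne)

theorem finite_of_exponent (hA : AddMonoid.exponent A ≠ 0) (a : A) (ha : a ≠ 0)
    (h : ∀ B : AddSubgroup A, B ≠ ⊥ → a ∈ B) : Finite A := by
  obtain ⟨χ, hχ⟩ := exists_injective_char a ha h
  have : Finite χ.range := finite_subgroup_QZ ⟨AddMonoid.exponent A, Nat.pos_of_ne_zero hA, by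
    rintro _ ⟨b, rfl⟩
    rw [← map_nsmul, AddMonoid.exponent_nsmul_eq_zero, map_zero]⟩
  exact Finite.of_injective _ (AddMonoidHom.ofInjective hχ).injective

theorem addOrderOf_eq_of_prime [Finite A] (a : A) (ha : a ≠ 0)
    (h : ∀ B : AddSubgroup A, B ≠ ⊥ → a ∈ B) {p : ℕ} (hp : p.Prime) (hdvd : p ∣ Nat.card A) :
    addOrderOf a = p := by
  haveI := Fact.mk hp
  obtain ⟨x, hx⟩ := exists_prime_addOrderOf_dvd_card' p hdvd
  have hmem : a ∈ AddSubgroup.zmultiples x := h _ fun hbot => by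
    have : x = 0 := AddSubgroup.mem_bot.mp (hbot ▸ AddSubgroup.mem_zmultiples x)
    rw [this, addOrderOf_zero] at hx
    exact hp.one_lt.ne hx
  have hd : addOrderOf a ∣ p := by
    obtain ⟨k, rfl⟩ := AddSubgroup.mem_zmultiples_iff.mp hmem
    rw [addOrderOf_dvd_iff_nsmul_eq_zero, smul_comm, ← hx, addOrderOf_nsmul_eq_zero, zsmul_zero]
  rcases hp.eq_one_or_self_of_dvd _ hd with h1 | h1
  · exact absurd (AddMonoid.addOrderOf_eq_one_iff.mp h1) ha
  · exact h1

theorem exists_addEquiv_zmod_primePow [Finite A] (a : A) (ha : a ≠ 0)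
    (h : ∀ B : AddSubgroup A, B ≠ ⊥ → a ∈ B) :
    ∃ p n : ℕ, p.Prime ∧ Nonempty (A ≃+ ZMod (p ^ n)) := by
  obtain ⟨χ, hχ⟩ := exists_injective_char a ha h
  set N := Nat.card A with hN
  have hle : χ.range ≤ AddSubgroup.zmultiples ((((1 : ℚ) / N) : ℚ) : QZ) := by
    rintro _ ⟨b, rfl⟩
    refine mem_zmultiples_of_nsmul_eq_zero Nat.card_pos ?_
    rw [← map_nsmul, hN, card_nsmul_eq_zero', map_zero]
  haveI : IsAddCyclic A :=
    isAddCyclic_of_injective ((AddSubgroup.inclusion hle).comp χ.rangeRestrict)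
      ((AddSubgroup.inclusion_injective hle).comp (AddMonoidHom.rangeRestrict_injective_iff.mpr hχ))
  haveI : Nontrivial A := ⟨⟨a, 0, ha⟩⟩
  have hpp : IsPrimePow N := by
    rw [isPrimePow_iff_unique_prime_dvd]
    obtain ⟨p, hp, hpd⟩ := Nat.exists_prime_and_dvd (show N ≠ 1 from Finite.one_lt_card.ne')
    refine ⟨p, ⟨hp, hpd⟩, fun q hq => ?_⟩
    rw [← addOrderOf_eq_of_prime a ha h hq.1 hq.2, addOrderOf_eq_of_prime a ha h hp hpd]
  obtain ⟨p, n, hp, -, hpn⟩ := hpp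
  refine ⟨p, n, Nat.prime_iff.mpr hp, ⟨?_⟩⟩
  rw [hpn]
  exact (zmodAddCyclicAddEquiv ‹IsAddCyclic A›).symm

end Groth.L05.ProCompl
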