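import Groth.Agent.L05.ProCompl.Basic

/-!
# Right exactness and injectivity for completions
-/

open Pointwise Topology Filter W4c61motalbduality

namespace Groth.L05.ProCompl

universe u v w

variable {A : Type u} {B : Type v} [AddCommGroup A] [TopologicalSpace A]
  [AddCommGroup B] [TopologicalSpace B] [IsTopologicalAddGroup B]

/-- The image of an open subgroup of finite index under an open surjection. -/
def imageFI {C : Type w} [AddCommGroup C] [TopologicalSpace C] (p : B →+ C) (hpo : IsOpenMap p)
    (hps : Function.Surjective p) (V : OpenFI B) : OpenFI C where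
  toAddSubgroup := V.toAddSubgroup.map p
  isOpen' := hpo _ V.isOpen'
  finiteIndex' := by
    haveI := V.finiteIndex'
    exact ⟨fun h => V.finiteIndex'.index_ne_zero
      (Nat.eq_zero_of_zero_dvd (h ▸ AddSubgroup.index_map_dvd V.toAddSubgroup hps))⟩

omit [IsTopologicalAddGroup B] in
theorem map_component (f : A →+ B) (hf : Continuous f) (x : FICompl A) (V : OpenFI B) {a : A}
    (ha : (QuotientAddGroup.mk a : A ⧸ (V.comap f hf).toAddSubgroup) = x.1 (V.comap f hf)) :
    (FICompl.map f hf x).1 V = QuotientAddGroup.mk (f a) := by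
  show QuotientAddGroup.map _ _ f _ (x.1 (V.comap f hf)) = _
  rw [← ha]
  rfl

omit [IsTopologicalAddGroup B] in
theorem surjective_map {C : Type w} [AddCommGroup C] [TopologicalSpace C] (p : B →+ C)
    (hp : Continuous p) (hpo : IsOpenMap p) (hps : Function.Surjective p) :
    Function.Surjective (FICompl.map p hp) := by
  intro z
  obtain ⟨y, hy⟩ := exists_mem_FICompl_of_finite_approx (fun V : OpenFI C => V.comap p hp)
    (fun V => {q | QuotientAddGroup.map _ _ p (V.comap_le p) q = z.1 V}) (fun s => by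
      obtain ⟨c, hc⟩ := QuotientAddGroup.mk_surjective (z.1 (finInf s))
      obtain ⟨b, rfl⟩ := hps c
      exact ⟨b, fun V hV => compat z (finInf_le hV) hc⟩)
  exact ⟨y, Subtype.ext (funext hy)⟩

theorem ker_map_eq_range {C : Type w} [AddCommGroup C] [TopologicalSpace C]
    (i : A →+ B) (hi : Continuous i) (p : B →+ C) (hp : Continuous p)
    (hpo : IsOpenMap p) (hps : Function.Surjective p) (hex : p.ker = i.range) :
    (FICompl.map p hp).ker = (FICompl.map i hi).range := by
  refine le_antisymm (fun y hy => ?_) ?_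
  · obtain ⟨x, hx⟩ := exists_mem_FICompl_of_finite_approx (fun V : OpenFI B => V.comap i hi)
      (fun V => {q | QuotientAddGroup.map _ _ i (V.comap_le i) q = y.1 V}) (fun s => by
        set V := finInf s
        have hW : ((imageFI p hpo hps V).comap p hp).toAddSubgroup = V.toAddSubgroup ⊔ p.ker :=
          AddSubgroup.comap_map_eq p V.toAddSubgroup
        obtain ⟨b, hb⟩ := QuotientAddGroup.mk_surjective (y.1 V)
        have hb' := compat y (V := (imageFI p hpo hps V).comap p hp) (le_sup_left.trans hW.ge) hb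
        have h0 := map_component p hp y (imageFI p hpo hps V) hb'
        rw [show FICompl.map p hp y = 0 from hy] at h0
        have hpb : p b ∈ V.toAddSubgroup.map p := (QuotientAddGroup.eq_zero_iff (p b)).mp h0.symm
        obtain ⟨v, hv, hvb⟩ := hpb
        obtain ⟨a, ha⟩ : b - v ∈ i.range := hex ▸ (by simp [AddMonoidHom.mem_ker, hvb])
        refine ⟨a, fun W hW' => ?_⟩
        show (QuotientAddGroup.mk (i a) : B ⧸ W.toAddSubgroup) = y.1 W
        rw [← compat y (finInf_le hW') hb, QuotientAddGroup.eq, ha]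
        have : -(b - v) + b = v := by abel
        rw [this]
        exact finInf_le hW' hv)
    exact ⟨x, Subtype.ext (funext hx)⟩
  · rintro _ ⟨x, rfl⟩
    refine Subtype.ext (funext fun W => ?_)
    obtain ⟨a, ha⟩ := QuotientAddGroup.mk_surjective (x.1 ((W.comap p hp).comap i hi))
    have h1 := map_component i hi x (W.comap p hp) ha
    have h2 := map_component p hp (FICompl.map i hi x) W h1.symm
    rw [h2]
    have : p (i a) = 0 := (hex ▸ ⟨a, rfl⟩ : i a ∈ p.ker)
    rw [this]
    rfl

theorem injective_map [T2Space B] [LocallyCompactSpace B] [TotallyDisconnectedSpace B]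
    (hcg : ∃ K : Set B, IsCompact K ∧ AddSubgroup.closure K = ⊤)
    (i : A →+ B) (hi : Continuous i) (hind : IsInducing i) :
    Function.Injective (FICompl.map i hi) := by
  classical
  rw [injective_iff_map_eq_zero]
  intro x hx
  refine Subtype.ext (funext fun U => ?_)
  haveI := nonarchimedean_of_locallyCompact (B := B)
  haveI := U.finiteIndex'
  obtain ⟨O, hO, hOeq⟩ := hind.isOpen_iff.mp U.isOpen'
  obtain ⟨W, hW⟩ := NonarchimedeanAddGroup.is_nonarchimedean O (hO.mem_nhds (by
    rw [← map_zero i, ← Set.mem_preimage, hOeq]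
    exact zero_mem U.toAddSubgroup))
  have hWU : W.toAddSubgroup.comap i ≤ U.toAddSubgroup := fun a ha => by
    have : a ∈ i ⁻¹' O := hW ha
    rwa [hOeq] at this
  have hchar : ∀ q : A ⧸ U.toAddSubgroup, ∃ V : OpenFI B, q ≠ 0 →
      ∀ a : A, QuotientAddGroup.mk a = q → i a ∉ V.toAddSubgroup := by
    intro q
    obtain ⟨a₀, rfl⟩ := QuotientAddGroup.mk_surjective q
    by_cases hq : a₀ ∈ U.toAddSubgroup
    · exact ⟨finInf ∅, fun h => absurd ((QuotientAddGroup.eq_zero_iff a₀).mpr hq) h⟩
    obtain ⟨χ, hχ, hχa⟩ := exists_char_ne_zero U.toAddSubgroup hq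
    obtain ⟨ψ, hψW, hψ⟩ := exists_extension_of_comap_le i χ W.toAddSubgroup (hWU.trans hχ)
    have hψo : IsOpen (ψ.ker : Set B) := AddSubgroup.isOpen_mono hψW W.isOpen
    refine ⟨⟨ψ.ker, hψo, finiteIndex_ker_of_compactlyGenerated hcg ψ hψo⟩, fun _ a ha hia => hχa ?_⟩
    have hχd : χ (-a + a₀) = 0 := hχ (QuotientAddGroup.eq.mp ha)
    have hψa : χ a = 0 := by rw [← hψ]; exact hia
    simpa [hψa] using hχd
  choose V hV using hchar
  haveI := Fintype.ofFinite (A ⧸ U.toAddSubgroup)
  set V₀ := finInf (Finset.univ.image V)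
  have hle : (V₀.comap i hi).toAddSubgroup ≤ U.toAddSubgroup := fun a ha => by
    by_contra h
    exact hV (QuotientAddGroup.mk a) (fun h0 => h ((QuotientAddGroup.eq_zero_iff a).mp h0)) a rfl
      (finInf_le (Finset.mem_image_of_mem V (Finset.mem_univ _)) ha)
  obtain ⟨a, ha⟩ := QuotientAddGroup.mk_surjective (x.1 (V₀.comap i hi))
  have h1 := map_component i hi x V₀ ha
  rw [hx] at h1
  have ha0 : a ∈ (V₀.comap i hi).toAddSubgroup := (QuotientAddGroup.eq_zero_iff (i a)).mp h1.symm
  rw [← compat x hle ha, (QuotientAddGroup.eq_zero_iff a).mpr (hle ha0)]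
  rfl

end Groth.L05.ProCompl
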