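import Groth.Agent.L05.ProCompl.Basic
import Mathlib.Topology.Algebra.Category.ProfiniteGrp.Completion
import Mathlib.GroupTheory.OrderOfElement

/-!
# Profinite completion of abelian groups: exactness
-/

open CategoryTheory ProfiniteGrp ProfiniteGrp.ProfiniteCompletion

namespace Groth.L05.ProCompl

universe u

variable {G H : GrpCat.{u}}

theorem compl_map_eta (f : G ⟶ H) (g : G) :
    (profiniteCompletion.map f).hom (etaFn G g) = etaFn H (f.hom g) := by
  have h := lift_eta (f ≫ eta H)
  exact ConcreteCategory.congr_hom h g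

theorem compl_map_val (f : G ⟶ H) (x : completion G) (K : FiniteIndexNormalSubgroup H) :
    ((profiniteCompletion.map f).hom x).val K =
      QuotientGroup.map (K.comap f.hom).toSubgroup K.toSubgroup f.hom (fun _ h => h)
        (x.val (K.comap f.hom)) := by
  letI : TopologicalSpace (H ⧸ K.toSubgroup) := ⊥
  haveI : DiscreteTopology (H ⧸ K.toSubgroup) := ⟨rfl⟩
  haveI : Finite ((ProfiniteCompletion.diagram G).obj (K.comap f.hom)) :=
    inferInstanceAs (Finite (G ⧸ (K.comap f.hom).toSubgroup))
  have h1 : Continuous fun y : completion G =>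
      (((profiniteCompletion.map f).hom y).val K : H ⧸ K.toSubgroup) :=
    ((continuous_apply K).comp continuous_subtype_val).comp
      (profiniteCompletion.map f).hom.continuous_toFun
  have h2 : Continuous fun y : completion G =>
      QuotientGroup.map (K.comap f.hom).toSubgroup K.toSubgroup f.hom (fun _ h => h)
        (y.val (K.comap f.hom) : G ⧸ (K.comap f.hom).toSubgroup) :=
    (continuous_of_discreteTopology (f := fun z : (ProfiniteCompletion.diagram G).obj (K.comap f.hom) =>
      QuotientGroup.map (K.comap f.hom).toSubgroup K.toSubgroup f.hom (fun _ h => h)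
        (z : G ⧸ (K.comap f.hom).toSubgroup))).comp
      ((continuous_apply (K.comap f.hom)).comp continuous_subtype_val)
  refine congrFun ((denseRange G).equalizer h1 h2 (funext fun g => ?_)) x
  show ((profiniteCompletion.map f).hom (etaFn G g)).val K = _
  rw [compl_map_eta]
  rfl

variable {A : Type u} [CommGroup A] (A' : Subgroup A)

theorem compat' {G : GrpCat.{u}} (x : completion G) {U V : FiniteIndexNormalSubgroup G} (h : U ≤ V)
    {a : G} (ha : (QuotientGroup.mk a : G ⧸ U.toSubgroup) = x.val U) :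
    (QuotientGroup.mk a : G ⧸ V.toSubgroup) = x.val V := by
  rw [← x.property h.hom, ← ha]
  rfl

theorem surjective_compl_map (f : G ⟶ H) (hf : Function.Surjective f.hom) :
    Function.Surjective (profiniteCompletion.map f).hom := by
  intro y
  have hc : IsClosed (Set.range (profiniteCompletion.map f).hom) :=
    (isCompact_range (profiniteCompletion.map f).hom.continuous_toFun).isClosed
  refine hc.closure_subset_iff.mpr ?_ (denseRange H y)
  rintro _ ⟨h, rfl⟩
  obtain ⟨g, rfl⟩ := hf h
  exact ⟨etaFn G g, compl_map_eta f g⟩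

theorem mem_closure_of_forall {G : GrpCat.{u}} {S : Set (completion G)} (y : completion G)
    (h : ∀ K : FiniteIndexNormalSubgroup G, ∃ s ∈ S, s.val K = y.val K) : y ∈ closure S := by
  classical
  refine mem_closure_iff.mpr fun U hU hy => ?_
  obtain ⟨V, hV, rfl⟩ := isOpen_induced_iff.mp hU
  obtain ⟨J, u, hu, huV⟩ := isOpen_pi_iff.mp hV _ hy
  let M : Subgroup G := ⨅ j : J, j.val.toSubgroup
  have hM : M.Normal := Subgroup.normal_iInf_normal fun j => inferInstance
  have hMFinite : M.FiniteIndex := Subgroup.finiteIndex_iInf fun j => inferInstance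
  let m : FiniteIndexNormalSubgroup G := { toSubgroup := M }
  obtain ⟨s, hs, hsm⟩ := h m
  refine ⟨s, huV fun j hj => ?_, hs⟩
  have hle : m ≤ j := iInf_le (fun j : J => j.val.toSubgroup) ⟨j, hj⟩
  have : s.val j = y.val j := by
    rw [← s.property hle.hom, ← y.property hle.hom, hsm]
  rw [this]
  exact (hu j hj).2

theorem ker_compl_map_mk :
    (profiniteCompletion.map (GrpCat.ofHom (QuotientGroup.mk' A'))).hom.toMonoidHom.ker =
      (profiniteCompletion.map (GrpCat.ofHom A'.subtype)).hom.toMonoidHom.range := by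
  set p := GrpCat.ofHom (QuotientGroup.mk' A')
  set i := GrpCat.ofHom A'.subtype
  refine le_antisymm (fun y hy => ?_) ?_
  · have hc : IsClosed (Set.range (profiniteCompletion.map i).hom) :=
      (isCompact_range (profiniteCompletion.map i).hom.continuous_toFun).isClosed
    refine hc.closure_subset (mem_closure_of_forall y fun U => ?_)
    haveI : (U.toSubgroup.map (QuotientGroup.mk' A')).FiniteIndex :=
      ⟨fun h0 => (inferInstance : U.toSubgroup.FiniteIndex).index_ne_zero
        (Nat.eq_zero_of_zero_dvd (h0 ▸ Subgroup.index_map_dvd U.toSubgroup (QuotientGroup.mk'_surjective A')))⟩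
    let K : FiniteIndexNormalSubgroup (GrpCat.of (A ⧸ A')) :=
      @FiniteIndexNormalSubgroup.ofSubgroup _ _ (U.toSubgroup.map (QuotientGroup.mk' A'))
        inferInstance inferInstance
    have hUK : U ≤ K.comap p.hom := fun a ha => ⟨a, ha, rfl⟩
    obtain ⟨b, hb⟩ := QuotientGroup.mk_surjective (y.val U)
    have h0 := compl_map_val p y K
    rw [← compat' y hUK hb, show (profiniteCompletion.map p).hom y = 1 from hy] at h0
    have hpb : QuotientGroup.mk' A' b ∈ K.toSubgroup :=
      (QuotientGroup.eq_one_iff _).mp h0.symm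
    obtain ⟨v, hv, hvb⟩ := hpb
    have ha : v⁻¹ * b ∈ A' := by
      rw [← QuotientGroup.eq]
      exact hvb
    refine ⟨(profiniteCompletion.map i).hom (etaFn _ (⟨v⁻¹ * b, ha⟩ : A')), ⟨_, rfl⟩, ?_⟩
    rw [compl_map_eta, ← hb]
    show QuotientGroup.mk (v⁻¹ * b) = (QuotientGroup.mk b : A ⧸ U.toSubgroup)
    rw [QuotientGroup.eq]
    have : (v⁻¹ * b)⁻¹ * b = v := by
      rw [mul_inv_rev, inv_inv, mul_comm b⁻¹ v, inv_mul_cancel_right]
    rw [this]
    exact hv
  · rintro _ ⟨x, rfl⟩
    show (profiniteCompletion.map p).hom ((profiniteCompletion.map i).hom x) = 1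
    refine Subtype.ext (funext fun W => ?_)
    obtain ⟨a, ha⟩ := QuotientGroup.mk_surjective (x.val ((W.comap p.hom).comap i.hom))
    have h1 := compl_map_val i x (W.comap p.hom)
    rw [← ha] at h1
    have h2 := compl_map_val p ((profiniteCompletion.map i).hom x) W
    rw [h1] at h2
    rw [h2]
    show (QuotientGroup.mk (QuotientGroup.mk' A' (a : A)) : (A ⧸ A') ⧸ W.toSubgroup) = _
    rw [show QuotientGroup.mk' A' (a : A) = 1 from (QuotientGroup.eq_one_iff _).mpr a.2]
    rfl

/-- A subgroup of finite index of a subgroup is cut out by a subgroup of finite index of the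
ambient group when torsion of the quotient has bounded exponent. -/
theorem exists_finiteIndex_comap_le {A : Type u} [AddCommGroup A] (A' : AddSubgroup A) {N : ℕ}
    (hN : 0 < N) (htors : ∀ a : A, (∃ n, 0 < n ∧ n • a ∈ A') → N • a ∈ A') (U : AddSubgroup A')
    [U.FiniteIndex] : ∃ V : AddSubgroup A, V.FiniteIndex ∧ V.addSubgroupOf A' ≤ U := by
  set m := U.index with hm
  have hm0 : 0 < m := Nat.pos_of_ne_zero (inferInstance : U.FiniteIndex).index_ne_zero
  let W : AddSubgroup A := (nsmulAddMonoidHom (N * m) : A →+ A).range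
  have hW : W.addSubgroupOf A' ≤ U := by
    rintro a ⟨b, hb⟩
    have hb' : (N * m) • b = (a : A) := hb
    have hNb : N • b ∈ A' := htors b ⟨N * m, Nat.mul_pos hN hm0, hb' ▸ a.2⟩
    have : a = m • (⟨N • b, hNb⟩ : A') := Subtype.ext (by
      rw [AddSubmonoidClass.coe_nsmul, smul_smul, mul_comm]; exact hb'.symm)
    rw [this, hm]
    exact U.nsmul_index_mem _
  have hchar : ∀ q : A' ⧸ U, ∃ V : AddSubgroup A, V.FiniteIndex ∧
      (q ≠ 0 → ∀ a : A', QuotientAddGroup.mk a = q → (a : A) ∉ V) := by
    intro q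
    obtain ⟨a₀, rfl⟩ := QuotientAddGroup.mk_surjective q
    by_cases hq : a₀ ∈ U
    · exact ⟨⊤, inferInstance, fun h => absurd ((QuotientAddGroup.eq_zero_iff a₀).mpr hq) h⟩
    obtain ⟨χ, hχ, hχa⟩ := exists_char_ne_zero U hq
    obtain ⟨ψ, hψW, hψ⟩ := exists_extension_of_comap_le A'.subtype χ W (hW.trans hχ)
    have : Finite ψ.range := finite_subgroup_QZ ⟨N * m, Nat.mul_pos hN hm0, by
      rintro _ ⟨b, rfl⟩
      rw [← map_nsmul]
      exact hψW ⟨b, rfl⟩⟩
    refine ⟨ψ.ker, finiteIndex_ker ψ, fun _ a ha hia => hχa ?_⟩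
    have hχd : χ (-a + a₀) = 0 := hχ (QuotientAddGroup.eq.mp ha)
    have hψa : χ a = 0 := by rw [← hψ]; exact hia
    simpa [hψa] using hχd
  choose V hVf hV using hchar
  haveI := Fintype.ofFinite (A' ⧸ U)
  haveI := hVf
  refine ⟨⨅ q, V q, AddSubgroup.finiteIndex_iInf hVf, fun a ha => ?_⟩
  by_contra h
  exact hV (QuotientAddGroup.mk a) (fun h0 => h ((QuotientAddGroup.eq_zero_iff a).mp h0)) a rfl
    ((AddSubgroup.mem_iInf.mp ha) _)

theorem injective_compl_map_subtype {N : ℕ} (hN : 0 < N)
    (htors : ∀ x : A ⧸ A', IsOfFinOrder x → x ^ N = 1) :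
    Function.Injective (profiniteCompletion.map (GrpCat.ofHom A'.subtype)).hom := by
  refine (injective_iff_map_eq_one _).mpr fun x hx => Subtype.ext (funext fun U => ?_)
  have htors' : ∀ a : Additive A, (∃ n, 0 < n ∧ n • a ∈ A'.toAddSubgroup) → N • a ∈ A'.toAddSubgroup := by
    rintro a ⟨n, hn, hna⟩
    show a.toMul ^ N ∈ A'
    rw [← QuotientGroup.eq_one_iff, QuotientGroup.mk_pow]
    refine htors _ (isOfFinOrder_iff_pow_eq_one.mpr ⟨n, hn, ?_⟩)
    rw [← QuotientGroup.mk_pow, QuotientGroup.eq_one_iff]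
    exact hna
  have hUf : U.toSubgroup.toAddSubgroup.FiniteIndex :=
    ⟨by rw [Subgroup.index_toAddSubgroup]; exact Subgroup.FiniteIndex.index_ne_zero⟩
  obtain ⟨V, hVf, hV⟩ := @exists_finiteIndex_comap_le (Additive A) _ A'.toAddSubgroup N hN htors'
    U.toSubgroup.toAddSubgroup hUf
  haveI : (AddSubgroup.toSubgroup' V).FiniteIndex :=
    ⟨by rw [← Subgroup.index_toAddSubgroup]; exact hVf.index_ne_zero⟩
  let K : FiniteIndexNormalSubgroup (GrpCat.of A) :=
    @FiniteIndexNormalSubgroup.ofSubgroup _ _ (AddSubgroup.toSubgroup' V) inferInstance inferInstance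
  have hKU : K.comap A'.subtype ≤ U := fun a ha => hV (show (Additive.ofMul (a : A)) ∈ V from ha)
  obtain ⟨a, ha⟩ := QuotientGroup.mk_surjective (x.val (K.comap A'.subtype))
  have h1 := compl_map_val (GrpCat.ofHom A'.subtype) x K
  rw [show (GrpCat.ofHom A'.subtype).hom = A'.subtype from rfl, ← ha, hx] at h1
  have ha0 : a ∈ (K.comap A'.subtype).toSubgroup := (QuotientGroup.eq_one_iff (a : A)).mp h1.symm
  rw [← compat' x hKU ha, (QuotientGroup.eq_one_iff a).mpr (hKU ha0)]
  rfl

end Groth.L05.ProCompl
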